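import Groth.Agent.L14.NRQuot.Basic
import Mathlib.Topology.JacobsonSpace

/-!
# Closed orbits and finite stabilisers along an exact sequence of groups
-/

set_option autoImplicit false
set_option linter.style.haveILetI false
set_option backward.isDefEq.respectTransparency false
set_option backward.isDefEq.respectTransparency.types false

noncomputable section

universe u

open CategoryTheory MonoidalCategory CartesianMonoidalCategory MonObj AlgebraicGeometry
open Groth.L14.GITProper Groth.L14.GITAff

namespace Groth.L14.NRQuot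

variable {k : Type u} [Field k] {H N Q X Y : Over (Spec (CommRingCat.of k))} [GrpObj H] [GrpObj N] [GrpObj Q]

/-- A closed point over a geometric point gives a section. -/
theorem exists_section_through {Ω : Type u} [Field Ω] [IsAlgClosed Ω] {T Z : Scheme.{u}}
    (eT : T ≅ Spec (CommRingCat.of Ω)) (g : Z ⟶ T) [LocallyOfFiniteType g] (z : Z) (hz : IsClosed ({z} : Set Z)) :
    ∃ s : T ⟶ Z, s ≫ g = 𝟙 T ∧ ∀ t, s.base t = z := by
  haveI : LocallyOfFiniteType (g ≫ eT.hom) := inferInstance
  refine ⟨eT.hom ≫ pointOfClosedPoint (g ≫ eT.hom) z hz, ?_, fun t => ?_⟩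
  · rw [← cancel_mono eT.hom, Category.assoc, Category.assoc, pointOfClosedPoint_comp, Category.comp_id,
      Category.id_comp]
  · rw [Scheme.Hom.comp_apply, pointOfClosedPoint_apply]

/-- Geometric points lift along a surjective morphism of schemes of finite type. -/
theorem exists_lift_point [LocallyOfFiniteType X.hom] (π : X ⟶ Y) [Surjective π.left]
    {Ω : Type u} [Field Ω] [IsAlgClosed Ω] (T : Over (Spec (CommRingCat.of k)))
    (eT : T.left ≅ Spec (CommRingCat.of Ω)) (y : T ⟶ Y) : ∃ x : T ⟶ X, x ≫ π = y := by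
  haveI : LocallyOfFiniteType π.left := by
    haveI : LocallyOfFiniteType (π.left ≫ Y.hom) := by rw [Over.w π]; infer_instance
    exact locallyOfFiniteType_of_comp π.left Y.hom
  let Z := Limits.pullback π.left y.left
  let g : Z ⟶ T.left := Limits.pullback.snd π.left y.left
  haveI : JacobsonSpace T.left := LocallyOfFiniteType.jacobsonSpace eT.hom
  haveI : JacobsonSpace Z := LocallyOfFiniteType.jacobsonSpace g
  haveI : Surjective g :=
    MorphismProperty.of_isPullback (P := @Surjective) (IsPullback.of_hasPullback π.left y.left) inferInstance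
  obtain ⟨z₀, -⟩ := g.surjective (eT.inv.base (IsLocalRing.closedPoint Ω))
  obtain ⟨z, -, hz⟩ := nonempty_inter_closedPoints (X := Z) (Z := Set.univ) ⟨z₀, trivial⟩ isClosed_univ.isLocallyClosed
  obtain ⟨s, hs, -⟩ := exists_section_through eT g z hz
  refine ⟨Over.homMk (s ≫ Limits.pullback.fst π.left y.left) ?_, Over.OverMorphism.ext ?_⟩
  · rw [← Over.w π, Category.assoc, Limits.pullback.condition_assoc, reassoc_of% hs, Over.w y]
  · show (s ≫ Limits.pullback.fst π.left y.left) ≫ π.left = y.left
    rw [Category.assoc, Limits.pullback.condition, reassoc_of% hs]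

theorem surjective_of_isGeomQuot {a : AlgGrp.Action H X} {φ : X ⟶ Y} (h : GIT.IsGeomQuot a φ) :
    Surjective φ.left := ⟨h.surj⟩

/-- Closed orbits upstairs and downstairs. -/
theorem isClosedAction_iff [LocallyOfFiniteType X.hom] (i : N ⟶ H) [IsMonHom i] (q : H ⟶ Q) [IsMonHom q]
    [Surjective q.left] (a : AlgGrp.Action H X) (aN : AlgGrp.Action N X) (haN : aN.act = (i ▷ X) ≫ a.act)
    (π : X ⟶ Y) (hπ : GIT.IsGeomQuot aN π) (aQ : AlgGrp.Action Q Y)
    (hequiv : (q ⊗ₘ π) ≫ aQ.act = a.act ≫ π) :
    GIT.IsClosedAction aQ ↔ GIT.IsClosedAction a := by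
  have key : ∀ (T : Over (Spec (CommRingCat.of k))) (x : T ⟶ X),
      IsClosed (Set.range (GIT.psi a x).left.base) ↔ IsClosed (Set.range (GIT.psi aQ (x ≫ π)).left.base) := by
    intro T x
    rw [range_psi_eq_preimage i haN hπ.inv hπ.orbit hequiv x]
    have hq : Topology.IsQuotientMap (π ▷ T).left.base :=
      hπ.subm (fst X T).left (fst Y T).left (π ▷ T).left (Groth.L14.GITLin.isPullback_whiskerRight π T)
    exact hq.isClosed_preimage
  constructor
  · intro h Ω _ _ T eT x
    exact (key T x).2 (h Ω T eT (x ≫ π))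
  · intro h Ω _ _ T eT y
    haveI := surjective_of_isGeomQuot hπ
    obtain ⟨x, rfl⟩ := exists_lift_point π T eT y
    exact (key T x).1 (h Ω T eT x)

/-- Over a geometric point a stabiliser is finite exactly when its set of points is finite. -/
theorem isFinite_stabTo_iff {G : Over (Spec (CommRingCat.of k))} [GrpObj G] [IsAffine G.left]
    [LocallyOfFiniteType G.hom]
    (a : AlgGrp.Action G X) {Ω : Type u} [Field Ω] [IsAlgClosed Ω] (T : Over (Spec (CommRingCat.of k)))
    (eT : T.left ≅ Spec (CommRingCat.of Ω)) (x : T ⟶ X) :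
    LocallyOfFiniteType (GLinSh.stabTo a x) ∧
      (IsFinite (GLinSh.stabTo a x) ↔ Finite (GLinSh.stab a x)) := by
  haveI : IsImmersion (lift x (𝟙 T)).left := by
    haveI : IsImmersion ((lift x (𝟙 T)).left ≫ (snd X T).left) := by
      rw [← Over.comp_left, lift_snd]; exact inferInstanceAs (IsImmersion (𝟙 T.left))
    exact IsImmersion.of_comp _ (snd X T).left
  have h0 : IsPullback (Limits.pullback.fst (GIT.psi a x).left (lift x (𝟙 T)).left) (GLinSh.stabTo a x)
      (GIT.psi a x).left (lift x (𝟙 T)).left := IsPullback.of_hasPullback _ _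
  haveI : IsImmersion (Limits.pullback.fst (GIT.psi a x).left (lift x (𝟙 T)).left) :=
    MorphismProperty.of_isPullback (P := @IsImmersion) h0.flip inferInstance
  have e : GLinSh.stabTo a x = Limits.pullback.fst (GIT.psi a x).left (lift x (𝟙 T)).left ≫ (snd G T).left := by
    have h := congrArg (· ≫ (snd X T).left) h0.w
    simp only [Category.assoc, ← Over.comp_left, GIT.psi, lift_snd, Over.id_left, Category.comp_id] at h
    exact h.symm
  haveI : LocallyOfFiniteType (snd G T).left :=
    MorphismProperty.of_isPullback (P := @LocallyOfFiniteType) (IsPullback.of_hasPullback G.hom T.hom) inferInstance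
  haveI : IsAffine T.left := IsAffine.of_isIso eT.hom
  haveI : IsAffine (G ⊗ T).left := inferInstanceAs (IsAffine (Limits.pullback G.hom T.hom))
  haveI : LocallyOfFiniteType (GLinSh.stabTo a x) := by rw [e]; infer_instance
  haveI : QuasiCompact (GLinSh.stabTo a x) := by
    haveI : IsLocallyNoetherian T.left := LocallyOfFiniteType.isLocallyNoetherian eT.hom
    haveI : IsLocallyNoetherian (G ⊗ T).left := LocallyOfFiniteType.isLocallyNoetherian (snd G T).left
    haveI : IsNoetherian (G ⊗ T).left := ⟨⟩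
    haveI : CompactSpace (GLinSh.stab a x) := by
      refine ⟨((Limits.pullback.fst (GIT.psi a x).left (lift x (𝟙 T)).left).isEmbedding.isInducing.isCompact_iff).2 ?_⟩
      exact TopologicalSpace.NoetherianSpace.isCompact _
    exact (quasiCompact_iff_compactSpace _).2 inferInstance
  haveI : IsLocallyArtinian T.left := by
    haveI : IsLocallyArtinian (Spec (CommRingCat.of Ω)) := Scheme.isLocallyArtinianScheme_Spec.2 inferInstance
    exact IsLocallyArtinian.of_isImmersion eT.hom
  refine ⟨inferInstance, fun h => ?_, fun h => ?_⟩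
  · haveI : Finite T.left := Finite.of_equiv (PrimeSpectrum Ω) eT.hom.homeomorph.toEquiv.symm
    have hf := (GLinSh.stabTo a x).finite_preimage (s := (Set.univ : Set T.left)) Set.finite_univ
    rw [Set.preimage_univ] at hf
    exact Set.finite_univ_iff.1 hf
  · haveI : LocallyQuasiFinite (GLinSh.stabTo a x) :=
      LocallyQuasiFinite.of_finite_preimage_singleton _ fun _ => Set.toFinite _
    exact IsFinite.of_locallyQuasiFinite _

/-- Finite stabilisers upstairs and downstairs. -/
theorem finite_stab_iff [LocallyOfFiniteType X.hom] [QuasiCompact X.hom] [IsAffine H.left]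
    [LocallyOfFiniteType H.hom] (i : N ⟶ H) [IsMonHom i] (q : H ⟶ Q) [IsMonHom q] [Surjective q.left]
    (hker : AlgGrp.IsKernel i q) (a : AlgGrp.Action H X) (aN : AlgGrp.Action N X)
    (haN : aN.act = (i ▷ X) ≫ a.act) (π : X ⟶ Y) (hπ : GIT.IsInvariant aN π)
    (ho : Function.Surjective (GIT.PsiY aN π hπ).base) (aQ : AlgGrp.Action Q Y)
    (hequiv : (q ⊗ₘ π) ≫ aQ.act = a.act ≫ π) {Ω : Type u} [Field Ω] [IsAlgClosed Ω]
    (T : Over (Spec (CommRingCat.of k))) (eT : T.left ≅ Spec (CommRingCat.of Ω)) (x : T ⟶ X)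
    (hN : Finite (GLinSh.stab aN x)) (hQlft : LocallyOfFiniteType (GLinSh.stabTo aQ (x ≫ π))) :
    Finite (GLinSh.stab aQ (x ≫ π)) ↔ Finite (GLinSh.stab a x) := by
  haveI : Subsingleton T.left := eT.hom.homeomorph.injective.subsingleton (β := PrimeSpectrum Ω)
  let t₀ : T.left := eT.inv.base (IsLocalRing.closedPoint Ω)
  -- the map of stabilisers
  have e1 : (lift x (𝟙 T)).left ≫ (π ▷ T).left = (lift (x ≫ π) (𝟙 T)).left := by
    rw [← Over.comp_left, lift_whiskerRight]
  have hsq := congrArg CommaMorphism.left (psi_whiskerRight_map hequiv x)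
  simp only [Over.comp_left] at hsq
  have hcond : (Limits.pullback.fst (GIT.psi a x).left (lift x (𝟙 T)).left ≫ (q ▷ T).left) ≫
      (GIT.psi aQ (x ≫ π)).left = GLinSh.stabTo a x ≫ (lift (x ≫ π) (𝟙 T)).left := by
    rw [Category.assoc, ← hsq, Limits.pullback.condition_assoc, e1]
    rfl
  let m : GLinSh.stab a x ⟶ GLinSh.stab aQ (x ≫ π) := Limits.pullback.lift
    (Limits.pullback.fst (GIT.psi a x).left (lift x (𝟙 T)).left ≫ (q ▷ T).left) (GLinSh.stabTo a x) hcond
  -- points of the stabilisers are points of the group over the base point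
  haveI hmono : ∀ {P : Over (Spec (CommRingCat.of k))} (f : T ⟶ P), Mono (lift f (𝟙 T)).left := fun f => by
    haveI : IsSplitMono (lift f (𝟙 T)).left := IsSplitMono.mk' ⟨(snd _ T).left, by rw [← Over.comp_left, lift_snd]; rfl⟩
    infer_instance
  have hinj : Function.Injective (Limits.pullback.fst (GIT.psi aQ (x ≫ π)).left (lift (x ≫ π) (𝟙 T)).left).base := by
    haveI : IsPreimmersion (lift (x ≫ π) (𝟙 T)).left := by
      haveI : IsImmersion ((lift (x ≫ π) (𝟙 T)).left ≫ (snd Y T).left) := by
        rw [← Over.comp_left, lift_snd]; exact inferInstanceAs (IsImmersion (𝟙 T.left))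
      haveI := IsImmersion.of_comp (lift (x ≫ π) (𝟙 T)).left (snd Y T).left
      infer_instance
    exact (Limits.pullback.fst (GIT.psi aQ (x ≫ π)).left (lift (x ≫ π) (𝟙 T)).left).isEmbedding.injective
  have hinjH : Function.Injective (Limits.pullback.fst (GIT.psi a x).left (lift x (𝟙 T)).left).base := by
    haveI : IsPreimmersion (lift x (𝟙 T)).left := by
      haveI : IsImmersion ((lift x (𝟙 T)).left ≫ (snd X T).left) := by
        rw [← Over.comp_left, lift_snd]; exact inferInstanceAs (IsImmersion (𝟙 T.left))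
      haveI := IsImmersion.of_comp (lift x (𝟙 T)).left (snd X T).left
      infer_instance
    exact (Limits.pullback.fst (GIT.psi a x).left (lift x (𝟙 T)).left).isEmbedding.injective
  have hmsurj : Function.Surjective m.base := by
    intro w
    obtain ⟨p, hp⟩ := (surjective_whiskerRight q T).surj
      ((Limits.pullback.fst (GIT.psi aQ (x ≫ π)).left (lift (x ≫ π) (𝟙 T)).left).base w)
    have hw : (π ▷ T).left.base ((GIT.psi a x).left.base p) = (π ▷ T).left.base ((lift x (𝟙 T)).left.base t₀) := by
      rw [← Scheme.Hom.comp_apply, hsq, Scheme.Hom.comp_apply, hp, ← Scheme.Hom.comp_apply,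
        Limits.pullback.condition, Scheme.Hom.comp_apply, ← Scheme.Hom.comp_apply _ (π ▷ T).left, e1]
      exact congrArg _ (Subsingleton.elim _ _)
    obtain ⟨r, hr1, hr2⟩ := exists_act_of_fibre hπ ho T _ _ hw.symm
    obtain ⟨v, hv1, hv2⟩ := exists_preimage_isPullback (Groth.L18.GITQ.isPullback_whiskerLeft N (GIT.psi a x)) r p hr2
    let p' := (pullAct i (trAct T)).act.left.base v
    have hp' : (GIT.psi a x).left.base p' = (lift x (𝟙 T)).left.base t₀ := by
      show ((pullAct i (trAct T)).act ≫ GIT.psi a x).left.base v = _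
      rw [psi_pullAct_equivariant i x, ← fstAct_restrict i haN, Over.comp_left, Scheme.Hom.comp_apply, hv1, hr1]
    have hqp' : (q ▷ T).left.base p' = (q ▷ T).left.base p := by
      show ((pullAct i (trAct T)).act ≫ (q ▷ T)).left.base v = _
      rw [pullAct_trAct_whiskerRight i q hker T, Over.comp_left, Scheme.Hom.comp_apply, hv2]
    obtain ⟨s, hs, -⟩ := Scheme.Pullback.exists_preimage_pullback
      (f := (GIT.psi a x).left) (g := (lift x (𝟙 T)).left) p' t₀ hp'
    refine ⟨s, hinj ?_⟩
    show (m ≫ Limits.pullback.fst (GIT.psi aQ (x ≫ π)).left (lift (x ≫ π) (𝟙 T)).left).base s = _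
    rw [Limits.pullback.lift_fst]
    show (q ▷ T).left.base ((Limits.pullback.fst (GIT.psi a x).left (lift x (𝟙 T)).left).base s) = _
    rw [hs, hqp', hp]
  refine ⟨fun hQ => ?_, fun hH => ?_⟩
  swap
  · haveI := hH
    exact Finite.of_surjective _ hmsurj
  -- the fibres of the map of stabilisers
  obtain ⟨hlft, -⟩ := isFinite_stabTo_iff a T eT x
  haveI := hlft
  haveI : JacobsonSpace T.left := LocallyOfFiniteType.jacobsonSpace eT.hom
  haveI : JacobsonSpace (GLinSh.stab a x) := LocallyOfFiniteType.jacobsonSpace (GLinSh.stabTo a x)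
  -- a section through a point of each closed fibre
  have hfib : ∀ w, IsClosed ({w} : Set (GLinSh.stab aQ (x ≫ π))) → (m.base ⁻¹' {w}).Finite := by
    intro w hw
    rcases Set.eq_empty_or_nonempty (m.base ⁻¹' {w}) with he | hne
    · rw [he]; exact Set.finite_empty
    obtain ⟨s₀, hs₀, hs₀c⟩ := nonempty_inter_closedPoints hne (hw.preimage m.continuous).isLocallyClosed
    obtain ⟨τ', hτ', hτt⟩ := exists_section_through eT (GLinSh.stabTo a x) s₀ hs₀c
    let τ : T ⟶ H ⊗ T := Over.homMk (τ' ≫ Limits.pullback.fst (GIT.psi a x).left (lift x (𝟙 T)).left) (by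
      rw [← Over.w (GIT.psi a x), Category.assoc, Limits.pullback.condition_assoc]
      show τ' ≫ GLinSh.stabTo a x ≫ (lift x (𝟙 T)).left ≫ (X ⊗ T).hom = T.hom
      rw [reassoc_of% hτ', Over.w])
    have hτσ : τ ≫ GIT.psi a x = lift x (𝟙 T) := Over.OverMorphism.ext (by
      show (τ' ≫ Limits.pullback.fst (GIT.psi a x).left (lift x (𝟙 T)).left) ≫ (GIT.psi a x).left = _
      rw [Category.assoc, Limits.pullback.condition]
      show τ' ≫ GLinSh.stabTo a x ≫ (lift x (𝟙 T)).left = _
      rw [reassoc_of% hτ'])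
    -- the stabiliser in the kernel
    let Φ : GLinSh.stab aN x → (H ⊗ T).left := fun u =>
      ((N ◁ τ) ≫ (pullAct i (trAct T)).act).left.base
        ((Limits.pullback.fst (GIT.psi aN x).left (lift x (𝟙 T)).left).base u)
    haveI := hN
    refine ((Set.finite_range Φ).preimage hinjH.injOn).subset fun s hs => ?_
    show (Limits.pullback.fst (GIT.psi a x).left (lift x (𝟙 T)).left).base s ∈ Set.range Φ
    have e3 : ∀ s, m.base s = w → (q ▷ T).left.base ((Limits.pullback.fst (GIT.psi a x).left (lift x (𝟙 T)).left).base s) =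
        (Limits.pullback.fst (GIT.psi aQ (x ≫ π)).left (lift (x ≫ π) (𝟙 T)).left).base w := fun s hs => by
      rw [← hs]
      show _ = (m ≫ Limits.pullback.fst (GIT.psi aQ (x ≫ π)).left (lift (x ≫ π) (𝟙 T)).left).base s
      rw [Limits.pullback.lift_fst]
      rfl
    have hτ₀ : τ.left.base t₀ = (Limits.pullback.fst (GIT.psi a x).left (lift x (𝟙 T)).left).base s₀ :=
      congrArg (Limits.pullback.fst (GIT.psi a x).left (lift x (𝟙 T)).left).base (hτt t₀)
    obtain ⟨r, hr1, hr2⟩ := exists_kernel_translate i q hker T _ _ ((e3 s hs).trans (e3 s₀ hs₀).symm)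
    obtain ⟨v, hv1, -⟩ := exists_preimage_isPullback (Groth.L18.GITQ.isPullback_whiskerLeft N τ) r t₀
      (hr2.trans hτ₀.symm)
    have e4 : (N ◁ τ) ≫ (pullAct i (trAct T)).act ≫ GIT.psi a x = GIT.psi aN x := by
      rw [psi_pullAct_equivariant i x, ← fstAct_restrict i haN, ← MonoidalCategory.whiskerLeft_comp_assoc, hτσ]
      refine CartesianMonoidalCategory.hom_ext _ _ ?_ ?_
      · rw [Category.assoc, fstAct_fst, ← MonoidalCategory.whiskerLeft_comp_assoc, lift_fst, GIT.psi, lift_fst]
      · rw [Category.assoc, fstAct_snd, whiskerLeft_snd_assoc, lift_snd, GIT.psi, lift_snd, Category.comp_id]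
    have hv : (GIT.psi aN x).left.base v = (lift x (𝟙 T)).left.base t₀ := by
      rw [← e4, Over.comp_left, Over.comp_left, Scheme.Hom.comp_apply, Scheme.Hom.comp_apply, hv1, hr1,
        ← Scheme.Hom.comp_apply, Limits.pullback.condition, Scheme.Hom.comp_apply]
      exact congrArg _ (Subsingleton.elim _ _)
    obtain ⟨u, hu, -⟩ := Scheme.Pullback.exists_preimage_pullback
      (f := (GIT.psi aN x).left) (g := (lift x (𝟙 T)).left) v t₀ hv
    refine ⟨u, ?_⟩
    show ((N ◁ τ) ≫ (pullAct i (trAct T)).act).left.base _ = _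
    rw [hu, Over.comp_left, Scheme.Hom.comp_apply, hv1, hr1]
  haveI := hQ
  haveI : LocallyOfFiniteType (GLinSh.stabTo aQ (x ≫ π)) := hQlft
  haveI : JacobsonSpace (GLinSh.stab aQ (x ≫ π)) := LocallyOfFiniteType.jacobsonSpace (GLinSh.stabTo aQ (x ≫ π))
  refine Set.finite_univ_iff.1 ((Set.finite_iUnion fun w => hfib w (isClosed_discrete _)).subset fun s _ =>
    Set.mem_iUnion.2 ⟨m.base s, rfl⟩)

end Groth.L14.NRQuot
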