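import Groth.Agent.L14.GITProper.Lemmas
import Groth.Agent.L14.GITLin.Geom
import Mathlib.AlgebraicGeometry.AlgClosed.Basic
import Mathlib.AlgebraicGeometry.Morphisms.UnderlyingMap

/-!
# Actions along an exact sequence of groups: fibres of the quotient maps
-/

set_option autoImplicit false
set_option linter.style.haveILetI false
set_option backward.isDefEq.respectTransparency false
set_option backward.isDefEq.respectTransparency.types false

noncomputable section

universe u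

open CategoryTheory MonoidalCategory CartesianMonoidalCategory MonObj AlgebraicGeometry
open Groth.L14.GITProper Groth.L14.GITAff

namespace Groth.L14.NRQuot

variable {S : Scheme.{u}} {G H N Q X Y : Over S} [GrpObj G] [GrpObj H] [GrpObj N] [GrpObj Q]

theorem image_range_subset {P R : Over S} {aP : AlgGrp.Action G P} {aR : AlgGrp.Action G R} {f : P ⟶ R}
    (h : aP.act ≫ f = (G ◁ f) ≫ aR.act) (w : (G ⊗ R).left)
    (hw : (snd G R).left.base w ∈ Set.range f.left.base) : aR.act.left.base w ∈ Set.range f.left.base := by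
  obtain ⟨p, hp⟩ := hw
  obtain ⟨v, hv, -⟩ := exists_preimage_isPullback (Groth.L18.GITQ.isPullback_whiskerLeft G f) w p hp.symm
  refine ⟨aP.act.left.base v, ?_⟩
  rw [← Scheme.Hom.comp_apply, ← Over.comp_left, h, Over.comp_left, Scheme.Hom.comp_apply, hv]

omit [GrpObj H] [GrpObj Q] in
theorem surjective_whiskerRight (q : H ⟶ Q) [Surjective q.left] (T : Over S) : Surjective (q ▷ T).left :=
  MorphismProperty.of_isPullback (P := @Surjective) (Groth.L14.GITLin.isPullback_whiskerRight q T).flip inferInstance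

/-- Points in one fibre of a geometric quotient, after a base change, differ by the group. -/
theorem exists_act_of_fibre {a : AlgGrp.Action G X} {φ : X ⟶ Y} (hφ : GIT.IsInvariant a φ)
    (ho : Function.Surjective (GIT.PsiY a φ hφ).base) (T : Over S) (z₁ z₂ : (X ⊗ T).left)
    (e : (φ ▷ T).left.base z₁ = (φ ▷ T).left.base z₂) :
    ∃ r : (G ⊗ (X ⊗ T)).left,
      (fstAct a T).act.left.base r = z₁ ∧ (snd G (X ⊗ T)).left.base r = z₂ := by
  obtain ⟨w, hw1, hw2⟩ := Scheme.Pullback.exists_preimage_pullback (f := (φ ▷ T).left) (g := (φ ▷ T).left) z₁ z₂ e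
  let Po : Over S := Over.mk (Limits.pullback.fst (φ ▷ T).left (φ ▷ T).left ≫ (X ⊗ T).hom)
  let p₁ : Po ⟶ X ⊗ T := Over.homMk (Limits.pullback.fst (φ ▷ T).left (φ ▷ T).left) rfl
  let p₂ : Po ⟶ X ⊗ T := Over.homMk (Limits.pullback.snd (φ ▷ T).left (φ ▷ T).left) (by
    show _ = Limits.pullback.fst (φ ▷ T).left (φ ▷ T).left ≫ (X ⊗ T).hom
    rw [← Over.w (φ ▷ T), Limits.pullback.condition_assoc])
  have hp : p₁ ≫ (φ ▷ T) = p₂ ≫ (φ ▷ T) := Over.OverMorphism.ext Limits.pullback.condition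
  have hpT : p₁ ≫ snd X T = p₂ ≫ snd X T := by
    simpa using congrArg (· ≫ snd Y T) hp
  have hpX : (p₁ ≫ fst X T) ≫ φ = (p₂ ≫ fst X T) ≫ φ := by
    simpa using congrArg (· ≫ fst Y T) hp
  let ν : Po.left ⟶ Limits.pullback φ.left φ.left :=
    Limits.pullback.lift (p₁ ≫ fst X T).left (p₂ ≫ fst X T).left (congrArg CommaMorphism.left hpX)
  obtain ⟨v, hv⟩ := ho (ν.base w)
  obtain ⟨r, hr1, hr2⟩ := Scheme.Pullback.exists_preimage_pullback (f := ν) (g := GIT.PsiY a φ hφ) w v hv.symm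
  let R : Over S := Over.mk (Limits.pullback.fst ν (GIT.PsiY a φ hφ) ≫ Po.hom)
  let c₁ : R ⟶ Po := Over.homMk (Limits.pullback.fst ν (GIT.PsiY a φ hφ)) rfl
  let c₂ : R ⟶ G ⊗ X := Over.homMk (Limits.pullback.snd ν (GIT.PsiY a φ hφ)) (by
    change _ ≫ (G ⊗ X).hom = _ ≫ Po.hom
    have e3 : ν ≫ Limits.pullback.snd φ.left φ.left ≫ X.hom = Po.hom := by
      rw [Limits.pullback.lift_snd_assoc, Over.w]
    have e4 : GIT.PsiY a φ hφ ≫ Limits.pullback.snd φ.left φ.left ≫ X.hom = (G ⊗ X).hom := by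
      rw [GIT.PsiY, Limits.pullback.lift_snd_assoc, Over.w]
    rw [← e3, ← e4, Limits.pullback.condition_assoc])
  have hc₁ : c₂ ≫ a.act = c₁ ≫ p₁ ≫ fst X T := by
    apply Over.OverMorphism.ext
    change Limits.pullback.snd ν (GIT.PsiY a φ hφ) ≫ a.act.left =
      Limits.pullback.fst ν (GIT.PsiY a φ hφ) ≫ (p₁ ≫ fst X T).left
    have l1 : GIT.PsiY a φ hφ ≫ Limits.pullback.fst φ.left φ.left = a.act.left := Limits.pullback.lift_fst _ _ _
    rw [← l1, ← Limits.pullback.condition_assoc, Limits.pullback.lift_fst]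
  have hc₂ : c₂ ≫ snd G X = c₁ ≫ p₂ ≫ fst X T := by
    apply Over.OverMorphism.ext
    change Limits.pullback.snd ν (GIT.PsiY a φ hφ) ≫ (snd G X).left =
      Limits.pullback.fst ν (GIT.PsiY a φ hφ) ≫ (p₂ ≫ fst X T).left
    have l1 : GIT.PsiY a φ hφ ≫ Limits.pullback.snd φ.left φ.left = (snd G X).left := Limits.pullback.lift_snd _ _ _
    rw [← l1, ← Limits.pullback.condition_assoc, Limits.pullback.lift_snd]
  let d : R ⟶ G ⊗ (X ⊗ T) := lift (c₂ ≫ fst G X) (c₁ ≫ p₂)
  have hd : d ≫ (fstAct a T).act = c₁ ≫ p₁ := by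
    refine CartesianMonoidalCategory.hom_ext _ _ ?_ ?_
    · rw [Category.assoc, fstAct_fst, lift_whiskerLeft_assoc, Category.assoc c₁, ← hc₂, ← comp_lift_assoc,
        lift_fst_snd, Category.id_comp, Category.assoc, ← hc₁]
    · rw [Category.assoc, fstAct_snd, lift_snd_assoc, Category.assoc, Category.assoc, hpT]
  refine ⟨d.left.base r, ?_, ?_⟩
  · show (d ≫ (fstAct a T).act).left.base r = z₁
    rw [hd]
    show p₁.left.base (c₁.left.base r) = z₁
    exact (congrArg p₁.left.base hr1).trans hw1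
  · show (d ≫ snd G (X ⊗ T)).left.base r = z₂
    rw [lift_snd]
    show p₂.left.base (c₁.left.base r) = z₂
    exact (congrArg p₂.left.base hr1).trans hw2

variable (i : N ⟶ H) [IsMonHom i] (q : H ⟶ Q) [IsMonHom q]

/-- Points in one fibre of a homomorphism differ by the kernel. -/
theorem exists_kernel_translate (hker : AlgGrp.IsKernel i q) (T : Over S) (s₁ s₂ : (H ⊗ T).left)
    (e : (q ▷ T).left.base s₁ = (q ▷ T).left.base s₂) :
    ∃ r : (N ⊗ (H ⊗ T)).left,
      (pullAct i (trAct T)).act.left.base r = s₁ ∧ (snd N (H ⊗ T)).left.base r = s₂ := by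
  obtain ⟨w, hw1, hw2⟩ := Scheme.Pullback.exists_preimage_pullback (f := (q ▷ T).left) (g := (q ▷ T).left) s₁ s₂ e
  let Po : Over S := Over.mk (Limits.pullback.fst (q ▷ T).left (q ▷ T).left ≫ (H ⊗ T).hom)
  let p₁ : Po ⟶ H ⊗ T := Over.homMk (Limits.pullback.fst (q ▷ T).left (q ▷ T).left) rfl
  let p₂ : Po ⟶ H ⊗ T := Over.homMk (Limits.pullback.snd (q ▷ T).left (q ▷ T).left) (by
    show _ = Limits.pullback.fst (q ▷ T).left (q ▷ T).left ≫ (H ⊗ T).hom
    rw [← Over.w (q ▷ T), Limits.pullback.condition_assoc])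
  have hp : p₁ ≫ (q ▷ T) = p₂ ≫ (q ▷ T) := Over.OverMorphism.ext Limits.pullback.condition
  have hpT : p₁ ≫ snd H T = p₂ ≫ snd H T := by
    simpa using congrArg (· ≫ snd Q T) hp
  have hpX : (p₁ ≫ fst H T) ≫ q = (p₂ ≫ fst H T) ≫ q := by
    simpa using congrArg (· ≫ fst Q T) hp
  have hq1 : ((p₁ ≫ fst H T) * (p₂ ≫ fst H T)⁻¹) ≫ q = toUnit Po ≫ η[Q] := by
    rw [MonObj.mul_comp, GrpObj.inv_comp, hpX, mul_inv_cancel, Hom.one_def]
  let n : Po ⟶ N := hker.lift _ (toUnit Po) hq1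
  have hn : n ≫ i = (p₁ ≫ fst H T) * (p₂ ≫ fst H T)⁻¹ := hker.lift_fst _ _ hq1
  let d : Po ⟶ N ⊗ (H ⊗ T) := lift n p₂
  have hd : d ≫ (pullAct i (trAct T)).act = p₁ := by
    show lift n p₂ ≫ (i ▷ (H ⊗ T)) ≫ (α_ H H T).inv ≫ (μ[H] ▷ T) = p₁
    rw [lift_whiskerRight_assoc, hn]
    nth_rewrite 2 [← lift_comp_fst_snd p₂]
    rw [mul_translate, inv_mul_cancel_right, ← hpT, lift_comp_fst_snd]
  refine ⟨d.left.base w, ?_, ?_⟩
  · show (d ≫ (pullAct i (trAct T)).act).left.base w = s₁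
    rw [hd]; exact hw1
  · show (d ≫ snd N (H ⊗ T)).left.base w = s₂
    rw [lift_snd]; exact hw2

/-- Translation by the kernel does not change the image. -/
theorem pullAct_trAct_whiskerRight (hker : AlgGrp.IsKernel i q) (T : Over S) :
    (pullAct i (trAct T)).act ≫ (q ▷ T) = snd N (H ⊗ T) ≫ (q ▷ T) := by
  have h1 : i ≫ q = 1 := by rw [hker.w, Hom.one_def]
  have e : (pullAct i (trAct T)).act =
      lift ((fst N (H ⊗ T) ≫ i) * (snd N (H ⊗ T) ≫ fst H T)) (snd N (H ⊗ T) ≫ snd H T) := by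
    rw [← mul_translate, lift_comp_fst_snd, ← lift_whiskerRight_assoc, lift_fst_snd, Category.id_comp]
    rfl
  rw [e, lift_whiskerRight]
  refine CartesianMonoidalCategory.hom_ext _ _ ?_ ?_
  · simp [MonObj.mul_comp, h1, MonObj.comp_one]
  · simp

variable {q} {a : AlgGrp.Action H X} {aN : AlgGrp.Action N X} {π : X ⟶ Y} {aQ : AlgGrp.Action Q Y}

/-- The orbit maps are compatible. -/
theorem psi_whiskerRight_map (hequiv : (q ⊗ₘ π) ≫ aQ.act = a.act ≫ π) {T : Over S} (x : T ⟶ X) :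
    GIT.psi a x ≫ (π ▷ T) = (q ▷ T) ≫ GIT.psi aQ (x ≫ π) := by
  refine CartesianMonoidalCategory.hom_ext _ _ ?_ ?_
  · simp only [GIT.psi, Category.assoc, whiskerRight_fst, lift_fst_assoc, lift_fst]
    rw [← hequiv, tensorHom_def]
    simp only [MonoidalCategory.whiskerLeft_comp, Category.assoc]
    rw [whisker_exchange_assoc]
  · simp [GIT.psi]

theorem fstAct_restrict (haN : aN.act = (i ▷ X) ≫ a.act) (T : Over S) :
    (fstAct aN T).act = (pullAct i (fstAct a T)).act := by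
  show (α_ N X T).inv ≫ (aN.act ▷ T) = (i ▷ (X ⊗ T)) ≫ (α_ H X T).inv ≫ (a.act ▷ T)
  rw [haN, comp_whiskerRight, associator_inv_naturality_left_assoc]

theorem psi_pullAct_equivariant {T : Over S} (x : T ⟶ X) :
    (pullAct i (trAct T)).act ≫ GIT.psi a x = (N ◁ GIT.psi a x) ≫ (pullAct i (fstAct a T)).act := by
  show ((i ▷ (H ⊗ T)) ≫ (trAct T).act) ≫ GIT.psi a x = (N ◁ GIT.psi a x) ≫ (i ▷ (X ⊗ T)) ≫ (fstAct a T).act
  rw [Category.assoc, psi_equivariant, ← whisker_exchange_assoc]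

theorem range_psi_eq_preimage [Surjective q.left]
    (haN : aN.act = (i ▷ X) ≫ a.act) (hπ : GIT.IsInvariant aN π)
    (ho : Function.Surjective (GIT.PsiY aN π hπ).base) (hequiv : (q ⊗ₘ π) ≫ aQ.act = a.act ≫ π)
    {T : Over S} (x : T ⟶ X) :
    Set.range (GIT.psi a x).left.base = (π ▷ T).left.base ⁻¹' Set.range (GIT.psi aQ (x ≫ π)).left.base := by
  have hsq := congrArg CommaMorphism.left (psi_whiskerRight_map hequiv x)
  simp only [Over.comp_left] at hsq
  refine Set.Subset.antisymm ?_ fun z hz => ?_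
  · rintro _ ⟨p, rfl⟩
    exact ⟨(q ▷ T).left.base p, by rw [← Scheme.Hom.comp_apply, ← hsq, Scheme.Hom.comp_apply]⟩
  · obtain ⟨w, hw⟩ := hz
    obtain ⟨p, rfl⟩ := (surjective_whiskerRight q T).surj w
    rw [← Scheme.Hom.comp_apply, ← hsq, Scheme.Hom.comp_apply] at hw
    obtain ⟨r, hr1, hr2⟩ := exists_act_of_fibre hπ ho T z _ hw.symm
    rw [← hr1, fstAct_restrict i haN]
    exact image_range_subset (psi_pullAct_equivariant i x) r ⟨p, hr2.symm⟩

end Groth.L14.NRQuot
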